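import Cfsg.Agent.Lib.CosetEnum.Defs

/-! Generated table data. -/

set_option autoImplicit false
set_option maxRecDepth 20000

namespace Cfsg.Lib.CosetEnum.Y5SpiderBase

/-- Table data. -/
def orb1_0_0 : Tab :=
  (.node 1 (.leaf 0x6900008c00003000009b00008400008000005600008400004000006e00007800008000005900007800007000005800007800000000006600007400003000005300007000004000005000007000002000005200006800009000005500006800007000006800006800004000004000006800003000006500006800002000005400006800001000007d00006400008000005700005c0000800000b300005c0000200000b10000540000300000b20000540000200000ad0000500000100000b000005000000000009300004c0000800000ac00004800008000009d00004400008000004900004400000000004a00003c00003000006f00003400003000006b00003400002000004500002c00004000004400002c00001000004800002400004000003800002400003000004700002400002000009700002000008000003100002000006000004300002000004000004200002000003000003300002000002000006c00001c0000800000c700001c0000300000c500001c0000100000c800001c0000000000c400001800008000003b00001800004000002e00001800003000003a0000180000200000d900001400008000005b00001400003000008500001400001000008300001400000000003600001000004000003500001000003000002a00001000002000002c00000c00003000002800000c0000200000d800000800008000002400000800003000007000000400008000002000000400002000002200000400001000001c00000000001000001a00000000000000001500000000000) (.leaf 0x950001040000300000ae0001000000400000990000fc00004000009c0000fc0000300000af0000f40000800000860000f00000000000630000dc00000000006a0000d00000400000810000c40000800000670000c400003000009a0000b40000300000800000b400002000007e0000b00000300000980000b000002000007b0000ac00003000007f0000a800002000007a0000a400001000007c0000a40000000000940000a00000100000960000a000000000008700009c00001000008200009c00000000005a00009000003000006d0000900000200000c600008c00008000008400008c00006))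

/-- Table data. -/
def orb1_0 : Tab :=
  orb1_0_0

end Cfsg.Lib.CosetEnum.Y5SpiderBase
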