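import Cfsg.Agent.Lib.CosetEnum.Defs

/-! Generated table data. -/

set_option autoImplicit false
set_option maxRecDepth 20000

namespace Cfsg.Lib.CosetEnum.Y5SpiderBase

/-- Table data. -/
def orb2_0_0 : Tab :=
  (.leaf 0x7e00005000002000008700004800003000009800004800002000006a00004000006000005200003400001000009a0000300000600000800000300000200000c800003000001000008200002c00005000006e00001c00005000005900001c00004000006600001c0000300000680000180000200000b200001800001000006500001400005000005500001400001000007d00001000005000004200001000001000004000000c0000600000b100000c00005000005300000c00003000005000000c00002000003800000800006000004800000800003000004700000800002000009700000400005000004300000400003000003300000400002000003100000400001000002c00000000001000002800000000000000002200000000000)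

/-- Table data. -/
def orb2_0 : Tab :=
  orb2_0_0

end Cfsg.Lib.CosetEnum.Y5SpiderBase
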