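import Cfsg.Agent.Lib.CosetEnum.Defs

/-! Generated table data. -/

set_option autoImplicit false
set_option maxRecDepth 20000

namespace Cfsg.Lib.CosetEnum.Y5SpiderBase

/-- Table data. -/
def orb3_0_0 : Tab :=
  (.leaf 0x8c00001800002000007400001000002000008800000c00002000006400000800002000007100000400002000000300000400001000006200000000002000000200000000000000000100000000000)

/-- Table data. -/
def orb3_0 : Tab :=
  orb3_0_0

end Cfsg.Lib.CosetEnum.Y5SpiderBase
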