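import Cfsg.Agent.Lib.CosetEnum.Y5SpiderBase.Orb0_Data0
import Cfsg.Agent.Lib.CosetEnum.Y5SpiderBase.Pos0_Data0
import Cfsg.Agent.Lib.CosetEnum.Y5SpiderBase.Orb1_Data0
import Cfsg.Agent.Lib.CosetEnum.Y5SpiderBase.Pos1_Data0
import Cfsg.Agent.Lib.CosetEnum.Y5SpiderBase.Orb2_Data0
import Cfsg.Agent.Lib.CosetEnum.Y5SpiderBase.Pos2_Data0
import Cfsg.Agent.Lib.CosetEnum.Y5SpiderBase.Orb3_Data0
import Cfsg.Agent.Lib.CosetEnum.Y5SpiderBase.Pos3_Data0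
import Cfsg.Agent.Lib.CosetEnum.Y5SpiderBase.Orb4_Data0
import Cfsg.Agent.Lib.CosetEnum.Y5SpiderBase.Pos4_Data0

/-! Generated certificate. -/

set_option autoImplicit false
set_option maxRecDepth 20000

namespace Cfsg.Lib.CosetEnum.Y5SpiderBase

/-- Table. -/
def orb0 : Tab :=
  orb0_0

/-- Table. -/
def pos0 : Tab :=
  pos0_0

/-- Generators of a level. -/
def words0 : List (List Nat) :=
  [[0],
    [1],
    [2],
    [3],
    [4],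
    [5],
    [6],
    [0, 1],
    [0, 3],
    [0, 5],
    [1, 0, 3, 4, 3, 0, 1, 2, 5, 0, 1, 2, 3, 0, 1, 4, 3, 5, 0, 1, 2, 3]]

/-- A level of the base. -/
def level0 : BaseLevel :=
  ⟨orb0, pos0, 243, words0⟩

/-- Table. -/
def orb1 : Tab :=
  orb1_0

/-- Table. -/
def pos1 : Tab :=
  pos1_0

/-- Generators of a level. -/
def words1 : List (List Nat) :=
  [[2],
    [4],
    [0, 1],
    [0, 3],
    [0, 5],
    [1],
    [3],
    [5],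
    [1, 0, 3, 4, 3, 0, 1, 2, 5, 0, 1, 2, 3, 0, 1, 4, 3, 5, 0, 1, 2, 3],
    [0]]

/-- A level of the base. -/
def level1 : BaseLevel :=
  ⟨orb1, pos1, 90, words1⟩

/-- Table. -/
def orb2 : Tab :=
  orb2_0

/-- Table. -/
def pos2 : Tab :=
  pos2_0

/-- Generators of a level. -/
def words2 : List (List Nat) :=
  [[1],
    [3],
    [0, 1],
    [0, 5],
    [5],
    [1, 0, 3, 4, 3, 0, 1, 2, 5, 0, 1, 2, 3, 0, 1, 4, 3, 5, 0, 1, 2, 3],
    [0]]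

/-- A level of the base. -/
def level2 : BaseLevel :=
  ⟨orb2, pos2, 32, words2⟩

/-- Table. -/
def orb3 : Tab :=
  orb3_0

/-- Table. -/
def pos3 : Tab :=
  pos3_0

/-- Generators of a level. -/
def words3 : List (List Nat) :=
  [[5],
    [0, 5],
    [1, 0, 3, 4, 3, 0, 1, 2, 5, 0, 1, 2, 3, 0, 1, 4, 3, 5, 0, 1, 2, 3],
    [0]]

/-- A level of the base. -/
def level3 : BaseLevel :=
  ⟨orb3, pos3, 9, words3⟩

/-- Table. -/
def orb4 : Tab :=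
  orb4_0

/-- Table. -/
def pos4 : Tab :=
  pos4_0

/-- Generators of a level. -/
def words4 : List (List Nat) :=
  [[0]]

/-- A level of the base. -/
def level4 : BaseLevel :=
  ⟨orb4, pos4, 2, words4⟩

/-- The transposed spider. -/
def spiderT : List Nat :=
  [6, 5, 0, 2, 1, 0, 4, 3, 0, 6, 5, 0, 2, 1, 0, 4, 3, 0, 6, 5, 0, 2, 1, 0, 4, 3, 0, 6, 5, 0, 2, 1, 0, 4, 3, 0, 6, 5, 0, 2, 1, 0, 4, 3, 0, 6, 5, 0, 2, 1, 0, 4, 3, 0, 6, 5, 0, 2, 1, 0, 4, 3, 0, 6, 5, 0, 2, 1, 0, 4, 3, 0, 6, 5, 0, 2, 1, 0, 4, 3, 0, 6, 5, 0, 2, 1, 0, 4, 3, 0]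

end Cfsg.Lib.CosetEnum.Y5SpiderBase
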